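import Cfsg.Agent.Small.M12Graph.Kill15840
import Cfsg.Agent.Small.DegreeGraph.Orders.Main
import Cfsg.Agent.M12Order.Eleven

/-!
# The orders of the simple groups of order dividing 95040 and divisible by eleven
-/

set_option autoImplicit false
set_option linter.unusedSectionVars false
set_option linter.style.haveILetI false

namespace Cfsg.Lib.Small.M12Graph

open Subgroup Cfsg.Lib.Chars Cfsg.Lib.Blocks Cfsg.Lib.Blocks.SmallOrder Cfsg.Lib.Blocks.SylowCount
  Cfsg.Lib.Blocks.DegreeEquation
open scoped _root_.Classical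

universe u

theorem divisor_cases : ∀ u ∈ Nat.divisors 8640,
    11 * u < 6000 ∨ 11 * u ∈ [6336, 7920, 9504, 10560, 11880, 15840, 19008, 23760, 31680, 47520, 95040] := by
  decide +kernel

theorem small_cases : ∀ t ∈ [60, 168, 360, 504, 660, 1092, 2448, 2520, 3420, 4080, 5616],
    t % 11 = 0 → 95040 % t = 0 → t = 660 := by
  decide +kernel

theorem check_6336 : check 11 576 80 = true := by decide +kernel
theorem check_9504 : check 11 864 98 = true := by decide +kernel
theorem check_10560 : check 11 960 103 = true := by decide +kernel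
theorem check_11880 : check 11 1080 109 = true := by decide +kernel
theorem check_19008 : check 11 1728 138 = true := by decide +kernel
theorem check_23760 : check 11 2160 155 = true := by decide +kernel

theorem count_31680 : ∀ n ∈ Nat.divisors 2880, n % 11 = 1 → n ≠ 144 → checkN 11 2880 178 n = true := by
  decide +kernel

theorem count_47520 : ∀ n ∈ Nat.divisors 4320, n % 11 = 1 → n ≠ 144 → checkN 11 4320 218 n = true := by
  decide +kernel

theorem inertia_31680 : ∀ e ∈ Nat.divisors 10, 2 ≤ e → e ∣ 20 → e ≠ 10 →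
    ((sums (terms 11 (144 * e) 31680 (20 / e) 178 1) (e - 1)).all fun s =>
      !(terms 11 (144 * e) 31680 (20 / e) 178 (e : ℤ)).contains (1 + s)) = true := by
  decide +kernel

theorem inertia_47520 : ∀ e ∈ Nat.divisors 10, 2 ≤ e → e ∣ 30 → e ≠ 10 →
    ((sums (terms 11 (144 * e) 47520 (30 / e) 218 1) (e - 1)).all fun s =>
      !(terms 11 (144 * e) 47520 (30 / e) 218 (e : ℤ)).contains (1 + s)) = true := by
  decide +kernel

theorem squares_31680 :
    Cfsg.Lib.Small.DegreeGraph.allM (fun zs => !(terms 11 1440 31680 2 178 10).contains (1 + zs.sum) ||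
      decide (31680 < 1 + (zs.map fun z => z * z).sum + (1 + zs.sum) * (1 + zs.sum)))
      (terms 11 1440 31680 2 178 1) 9 [] = true := by
  decide +kernel

variable {G : Type u} [Group G] [Fintype G] [IsSimpleGroup G]

local instance fact_eleven_graph : Fact (Nat.Prime 11) := ⟨by norm_num⟩

/-- With 144 Sylow subgroups of order eleven the inertial index is ten. -/
theorem exists_core_144 {B m S w : ℕ} (hB : Nat.card G = B) (hBm : B = 11 * m) (hm : ¬ 11 ∣ m)
    (hw : m = 144 * w) (hS : B ≤ S * S)
    (hcount : ∀ n ∈ Nat.divisors m, n % 11 = 1 → n ≠ 144 → checkN 11 m S n = true)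
    (hinert : ∀ e ∈ Nat.divisors 10, 2 ≤ e → e ∣ w → e ≠ 10 →
      ((sums (terms 11 (144 * e) B (w / e) S 1) (e - 1)).all fun s =>
        !(terms 11 (144 * e) B (w / e) S (e : ℤ)).contains (1 + s)) = true) :
    ∃ (P : Sylow 11 G) (C : Cyc G 11), Core C ∧ Subgroup.zpowers C.y = (P : Subgroup G) ∧ idx C = 144 ∧
      eC C = 10 ∧ 10 * Nat.card C.V = w := by
  have hnc := Cfsg.Lib.Small.not_comm_of_isSimple (G := G) (by
    rw [hB, hBm]
    rintro hp
    have h11 := (Nat.prime_mul_iff.1 hp)
    rcases h11 with ⟨-, h⟩ | ⟨-, h⟩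
    · omega
    · omega)
  obtain ⟨P⟩ : Nonempty (Sylow 11 G) := inferInstance
  obtain ⟨hd, hmod⟩ := Cfsg.Lib.Small.sylow_facts P (a := 1) (m := m) (by rw [hB, hBm, pow_one]) hm
  have hchk := checkN_card_sylow (Cfsg.Lib.Small.DegreeGraph.not_isCyclic_of_not_comm hnc) 11 m S
    (by rw [hB, hBm]) hm (hBm ▸ hS)
  have h144 : Nat.card (Sylow 11 G) = 144 := by
    by_contra hne
    rw [hcount _ (Nat.mem_divisors.2 ⟨hd, fun e => hm (e ▸ dvd_zero 11)⟩) hmod hne] at hchk
    exact Bool.noConfusion hchk
  obtain ⟨C, hC, hP, hidx, hmC, he2⟩ :=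
    Cfsg.Lib.Small.DegreeGraph.exists_core hnc (m := m) (by rw [hB, hBm]) hm P
  rw [hidx, h144] at hmC
  have hev : eC C * Nat.card C.V = w := by omega
  have he : eC C = 10 := by
    by_contra hne
    have h := hinert _ (Nat.mem_divisors.2 ⟨eC_dvd C, by norm_num⟩) he2 ⟨_, hev.symm⟩ hne
    obtain ⟨M, hM⟩ := exists_isPModular (Fact.out : Nat.Prime 11)
    obtain ⟨ν, δ, hD⟩ := C.exists_orbitData hM C.oneV
    obtain ⟨a, l, hlen, hsum, ha, hl, -⟩ := degree_equation_chars hC hM hD
    simp only [Term, hB, hidx, h144] at ha hl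
    have hv : w / eC C = Nat.card C.V := by
      rw [← hev, Nat.mul_div_cancel_left _ (by omega)]
    rw [hv, List.all_eq_true] at h
    have h3 := h l.sum (by
      rw [show eC C - 1 = l.length by omega]
      exact sum_mem_sums l fun z hz => mem_terms hS (hl z hz).1.1 (hl z hz).1.2)
    simp only [Bool.not_eq_true', hsum] at h3
    rw [List.contains_iff_mem.2 (mem_terms hS ha.1.1 ha.1.2)] at h3
    exact Bool.noConfusion h3
  exact ⟨P, C, hC, hP, hidx.trans h144, he, by rw [← he]; exact hev⟩

theorem false_31680 (hG : Nat.card G = 31680) : False := by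
  obtain ⟨P, C, hC, -, hidx, he, hV⟩ := exists_core_144 (w := 20) hG (m := 2880) (S := 178) (by norm_num)
    (by norm_num) (by norm_num) (by norm_num) count_31680 inertia_31680
  obtain ⟨M, hM⟩ := exists_isPModular (Fact.out : Nat.Prime 11)
  obtain ⟨ν, δ, hD⟩ := C.exists_orbitData hM C.oneV
  obtain ⟨a, l, hlen, hsum, ha, hl, hsq⟩ := degree_equation_chars hC hM hD
  simp only [Term, hG, hidx, he, show Nat.card C.V = 2 by omega, Nat.cast_ofNat, show 144 * 10 = 1440 from rfl] at ha hl hsq
  obtain ⟨zs, hperm, h⟩ := Cfsg.Lib.Small.DegreeGraph.allM_spec _ _ _ squares_31680 l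
    (fun z hz => mem_terms (by norm_num) (hl z hz).1.1 (hl z hz).1.2) (by omega)
  simp only [List.append_nil, hperm.sum_eq, (hperm.map _).sum_eq, hsum, Bool.or_eq_true, Bool.not_eq_true',
    decide_eq_true_eq] at h
  rcases h with h | h
  · rw [List.contains_iff_mem.2 (mem_terms (S := 178) (by norm_num) ha.1.1 ha.1.2)] at h
    exact Bool.noConfusion h
  · push_cast at hsq
    omega

theorem false_47520 (hG : Nat.card G = 47520) : False := by
  obtain ⟨P, C, hC, hP, hidx, he, hV'⟩ := exists_core_144 (w := 30) hG (m := 4320) (S := 218) (by norm_num)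
    (by norm_num) (by norm_num) (by norm_num) count_47520 inertia_47520
  have hV : Nat.card C.V = 3 := by omega
  haveI : Fact (Nat.Prime 3) := ⟨Nat.prime_three⟩
  have hnc := Cfsg.Lib.Small.not_comm_of_isSimple (G := G) (by rw [hG]; norm_num)
  obtain ⟨w0, hw0⟩ := exists_prime_orderOf_dvd_card' (G := C.V) 3 (by rw [hV])
  set w : G := ((w0 : C.H) : G)
  have hw : orderOf w = 3 := by
    rw [show w = ((w0 : C.H) : G) from rfl, Subgroup.orderOf_coe, Subgroup.orderOf_coe, hw0]
  set W := zpowers w
  have hWc : Nat.card ↥W = 3 := by rw [Nat.card_zpowers, hw]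
  have hW0 : zpowers w0 = ⊤ := Subgroup.eq_top_of_card_eq _ (by rw [Nat.card_zpowers, hw0, hV])
  have hnorm : normalizer (zpowers C.y : Set G) ≤ normalizer (W : Set G) := by
    intro g hg
    obtain ⟨i, k, hk, rfl⟩ := C.decomp g hg
    refine mul_mem ?_ ?_
    · refine centralizer_le_normalizer _ (mem_centralizer_iff.2 fun b hb => ?_)
      obtain ⟨n, rfl⟩ := mem_zpowers_iff.1 hb
      have h := C.commute_V w0 1
      rw [C.yP_one] at h
      exact ((h.zpow_left n).pow_right i).eq
    · refine Cfsg.Lib.MathieuEleven.mem_normalizer_zpowers ?_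
      have hmem : (⟨k, hk⟩ : C.H) * (w0 : C.H) * (⟨k, hk⟩ : C.H)⁻¹ ∈ C.V :=
        (MonoidHom.normal_ker C.act).conj_mem _ w0.2 _
      obtain ⟨n, hn⟩ := mem_zpowers_iff.1 (hW0 ▸ mem_top (⟨_, hmem⟩ : C.V))
      refine mem_zpowers_iff.2 ⟨n, ?_⟩
      have := congrArg (fun v : C.V => ((v : C.H) : G)) hn
      simpa [w] using this
  have hPle : (P : Subgroup G) ≤ normalizer (W : Set G) := by
    rw [← hP]
    exact le_normalizer.trans hnorm
  have hN330 : Nat.card ↥(normalizer (zpowers C.y : Set G)) = 330 := by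
    rw [Cfsg.Lib.Blocks.HalfDegree.card_normalizer_eq, card_H C, he, hV]
  have hcount := Cfsg.Lib.MathieuEleven.sylow_count (normalizer (W : Set G)) hPle (n := 1)
    (by simpa using Cfsg.Lib.Small.card_sylow_of_factor P (a := 1) (m := 4320) (by rw [hG]; norm_num) (by norm_num))
    (fun hd => by
      have := hd.trans (card_subgroup_dvd_card _)
      rw [hG] at this
      norm_num at this)
  rw [← hP, inf_eq_right.2 hnorm, hN330] at hcount
  set N := normalizer (W : Set G)
  set k := Nat.card (Sylow 11 ↥N)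
  obtain ⟨hk, hk1⟩ := hcount
  have hNtop : N ≠ ⊤ := fun e => by
    haveI := Subgroup.normalizer_eq_top_iff.1 e
    rcases IsSimpleGroup.eq_bot_or_eq_top_of_normal W inferInstance with h | h
    · rw [h, Subgroup.card_bot] at hWc; omega
    · rw [h, Subgroup.card_top, hG] at hWc; omega
  have hmul := N.card_mul_index
  rw [hG, ← hk] at hmul
  have hk144 : k ∣ 144 := ⟨N.index, by nlinarith [hmul]⟩
  have hlist : ∀ k ∈ Nat.divisors 144, k % 11 = 1 → k = 1 ∨ k = 12 ∨ k = 144 := by decide +kernel
  rcases hlist k (Nat.mem_divisors.2 ⟨hk144, by norm_num⟩) hk1 with e | e | e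
  · have h9 : 3 ^ (1 + 1) ∣ Nat.card ↥N :=
      Sylow.prime_pow_dvd_card_normalizer (by rw [hG]; norm_num) (by rw [hWc, pow_one])
    rw [← hk, e] at h9
    norm_num at h9
  · have hi12 : N.index = 12 := by rw [e] at hmul; omega
    obtain ⟨f, hf⟩ : ∃ f : G →* alternatingGroup (Fin 12), Function.Injective f :=
      hi12 ▸ Cfsg.Lib.Small.exists_hom_alternating_index hnc N hNtop
    set σ : Equiv.Perm (Fin 12) := (f C.y : Equiv.Perm (Fin 12))
    have hσ : orderOf σ = 11 := by
      rw [show σ = (f C.y : Equiv.Perm (Fin 12)) from rfl, Subgroup.orderOf_coe, orderOf_injective f hf, C.order]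
    have hct : σ.cycleType = {11} := by
      obtain ⟨n, hn⟩ := Equiv.Perm.cycleType_prime_order (σ := σ) (hσ ▸ (by norm_num))
      rw [hσ] at hn
      have hsum := Equiv.Perm.sum_cycleType σ
      have hle := Finset.card_le_univ σ.support
      rw [hn, Multiset.sum_replicate, smul_eq_mul] at hsum
      rw [Fintype.card_fin] at hle
      obtain rfl : n = 0 := by omega
      exact hn
    have h33 : 33 ≤ Nat.card ↥(centralizer ({σ} : Set (Equiv.Perm (Fin 12)))) := by
      have hcs : Nat.card ↥C.Cs = 33 := by rw [C.card_Cs, hV]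
      rw [← hcs]
      refine Nat.card_le_card_of_injective
        (fun g => ⟨(f g.1 : Equiv.Perm (Fin 12)), mem_centralizer_singleton_iff.2 ?_⟩) ?_
      · show ((f g.1 : Equiv.Perm (Fin 12))) * σ = σ * _
        rw [← Subgroup.coe_mul, ← map_mul, mem_centralizer_singleton_iff.1 g.2, map_mul, Subgroup.coe_mul]
      · intro a b h
        have h' := congrArg Subtype.val h
        exact Subtype.ext (hf (Subtype.ext h'))
    rw [Equiv.Perm.nat_card_centralizer, hct, Fintype.card_fin] at h33
    norm_num at h33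
  · rw [e] at hmul
    have : N.index = 1 := by omega
    exact hNtop (Subgroup.index_eq_one.1 this)

omit [Fintype G] in
/-- The orders. -/
theorem card_cases [Finite G] (hG : ¬ IsMulCommutative G) (hd : Nat.card G ∣ 95040) (h11 : 11 ∣ Nat.card G) :
    Nat.card G ∈ [660, 7920, 95040] := by
  classical
  have := Fintype.ofFinite G
  have hnc : ¬ ∀ a b : G, a * b = b * a := fun hc => hG ⟨⟨hc⟩⟩
  have hcyc := Cfsg.Lib.Small.DegreeGraph.not_isCyclic_of_not_comm hnc
  have kill : ∀ M S, Nat.card G = 11 * M → ¬ 11 ∣ M → 11 * M ≤ S * S → check 11 M S = true → False :=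
    fun M S h1 h2 h3 h4 => false_of_check hcyc 11 M S h1 h2 h3 h4
  simp only [List.mem_cons, List.not_mem_nil, or_false]
  have hu : Nat.card G / 11 ∈ Nat.divisors 8640 := by
    refine Nat.mem_divisors.2 ⟨?_, by norm_num⟩
    rw [show (8640 : ℕ) = 95040 / 11 by norm_num]
    exact Nat.div_dvd_div h11 hd
  have hc := divisor_cases _ hu
  rw [Nat.mul_div_cancel' h11] at hc
  rcases hc with h | h
  · exact Or.inl (small_cases _ (Cfsg.Lib.Small.DegreeGraph.card_mem_of_lt hG h)
      (Nat.mod_eq_zero_of_dvd h11) (Nat.mod_eq_zero_of_dvd hd))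
  simp only [List.mem_cons, List.not_mem_nil, or_false] at h
  rcases h with e | e | e | e | e | e | e | e | e | e | e
  · exact (kill 576 80 e (by norm_num) (by norm_num) check_6336).elim
  · exact Or.inr (Or.inl e)
  · exact (kill 864 98 e (by norm_num) (by norm_num) check_9504).elim
  · exact (kill 960 103 e (by norm_num) (by norm_num) check_10560).elim
  · exact (kill 1080 109 e (by norm_num) (by norm_num) check_11880).elim
  · exact (false_15840 e).elim
  · exact (kill 1728 138 e (by norm_num) (by norm_num) check_19008).elim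
  · exact (kill 2160 155 e (by norm_num) (by norm_num) check_23760).elim
  · exact (false_31680 e).elim
  · exact (false_47520 e).elim
  · exact Or.inr (Or.inr e)

end Cfsg.Lib.Small.M12Graph
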