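import Cfsg.Agent.Small.M12Graph.Split
import Cfsg.Agent.Small.M12Graph.Orders
import Cfsg.Agent.Chars.DegreeTools

/-!
# Groups with the order and the degree graph of M₁₂
-/

set_option autoImplicit false
set_option linter.unusedSectionVars false
set_option linter.style.haveILetI false

namespace Cfsg.Lib.Small.M12Graph

open Subgroup Cfsg.Lib.Chars
open scoped _root_.Classical

universe u

variable {G : Type u} [Group G] [Finite G]

/-- A section of order 660 leaves no degree divisible by 55. -/
theorem false_660 (h : Hyp G) (M : Subgroup G) [M.Normal]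
    (hq : (center M).index = 660) : False := by
  have := Fintype.ofFinite G
  obtain ⟨-, -, -, d, ⟨χ, rfl⟩, hd⟩ := h.facts.five
  rw [charDegree_eq_deg χ.2] at hd
  obtain ⟨θ, hθ, hθc⟩ := exists_constituent (N := M) (isCharacter_of_irr χ.2)
    (IsIrrCharacter.apply_one_ne_zero χ.2)
  obtain ⟨m, hm, hmd⟩ := deg_over M χ.2 hθ hθc
  have hidx : M.index ∣ 144 := by
    have h1 := M.card_mul_index
    rw [h.card, ← (center M).card_mul_index, hq] at h1
    exact ⟨Nat.card (center M), by nlinarith⟩
  have hcop : ∀ p : ℕ, p.Prime → p ∣ 5 * 11 → ¬ p ∣ m := fun p hp h55 hpm => by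
    have h1 : p ∣ 144 := hpm.trans (hmd.trans hidx)
    have h2 : p ∣ Nat.gcd (5 * 11) 144 := Nat.dvd_gcd h55 h1
    rw [show Nat.gcd (5 * 11) 144 = 1 by norm_num] at h2
    exact hp.not_dvd_one h2
  rw [hm] at hd
  have h5 : 5 ∣ deg θ := ((show Nat.Prime 5 by norm_num).dvd_mul.1 ((dvd_mul_right 5 11).trans hd)).resolve_left
    (hcop 5 (by norm_num) (dvd_mul_right 5 11))
  have h11 : 11 ∣ deg θ := ((show Nat.Prime 11 by norm_num).dvd_mul.1 ((dvd_mul_left 11 5).trans hd)).resolve_left
    (hcop 11 (by norm_num) (dvd_mul_left 11 5))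
  have h55 : 5 * 11 ∣ deg θ := Nat.Coprime.mul_dvd_of_dvd_of_dvd (by norm_num) h5 h11
  have hsq := Cfsg.Lib.InducedFamily.deg_sq_le_index hθ (center M) fun z hz g => by
    rw [show z * g = g * z from (mem_center_iff.1 hz g).symm]
    congr 1
    group
  rw [hq] at hsq
  have := Nat.le_of_dvd (deg_irr_pos ⟨θ, hθ⟩) h55
  nlinarith

theorem main (h : Hyp G) :
    Nonempty (G ≃* ↥Cfsg.Spor.M12) ∨ Nonempty (G ≃* alternatingGroup (Fin 4) × ↥Cfsg.Spor.M11) := by
  obtain ⟨y, hy⟩ := h.exists_orderOf
  set M := normalClosure ({y} : Set G)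
  haveI : IsSimpleGroup (M ⧸ center M) := h.isSimpleGroup_quotient hy
  have hq : (center M).index = Nat.card (M ⧸ center M) := Subgroup.index_eq_card _
  have hdM : Nat.card M ∣ 95040 := h.card ▸ card_subgroup_dvd_card M
  have hmul := (center M).card_mul_index
  have hd : Nat.card (M ⧸ center M) ∣ 95040 := by
    rw [← hq]
    exact (Dvd.intro_left _ hmul).trans hdM
  have hcases := card_cases (h.quotient_not_comm hy) hd (h.dvd_card_quotient hy)
  simp only [List.mem_cons, List.not_mem_nil, or_false] at hcases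
  rcases hcases with e | e | e
  · exact (false_660 h M (hq.trans e)).elim
  · right
    obtain ⟨f⟩ := Cfsg.Lib.MathieuEleven.equiv_M11 e
    have hZ := center_eq_bot_of_cover (h.isPerfect hy) f
    have eM : M ≃* ↥Cfsg.Spor.M11 :=
      ((QuotientGroup.quotientBot.symm).trans (QuotientGroup.quotientMulEquivOfEq hZ.symm)).trans f
    exact iso_prod_of_normal h M (by rw [Nat.card_congr eM.toEquiv, Cfsg.Lib.Golay.card_M11]) eM
  · left
    obtain ⟨f⟩ := iso_M12 e
    rw [hq, e] at hmul
    have hle : Nat.card M ≤ 95040 := Nat.le_of_dvd (by norm_num) hdM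
    have hpos : 0 < Nat.card (center M) := Nat.card_pos
    have hZ1 : Nat.card (center M) = 1 := by nlinarith
    have hZ : center M = ⊥ := Subgroup.card_eq_one.1 hZ1
    have hM : M = ⊤ := Subgroup.eq_top_of_card_eq _ (by rw [h.card, ← hmul, hZ1, one_mul])
    have eM : M ≃* ↥Cfsg.Spor.M12 :=
      ((QuotientGroup.quotientBot.symm).trans (QuotientGroup.quotientMulEquivOfEq hZ.symm)).trans f
    exact ⟨(Subgroup.topEquiv.symm.trans (MulEquiv.subgroupCongr hM.symm)).trans eM⟩

end Cfsg.Lib.Small.M12Graph
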