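import Cfsg.Agent.Blocks.DegreeEquation.Check
import Cfsg.Agent.Small.DegreeGraph.Core

/-!
# The degree equation with the characters behind it
-/

set_option autoImplicit false
set_option linter.unusedSectionVars false

namespace Cfsg.Lib.Small.M12Graph

open Cfsg.Lib.Chars Cfsg.Lib.Blocks Cfsg.Lib.Blocks.SmallOrder Cfsg.Lib.Blocks.SylowCount
  Cfsg.Lib.Blocks.DegreeEquation
open scoped _root_.Classical

universe u

variable {G : Type u} [Group G] [Fintype G] [IsSimpleGroup G] {p : ℕ} [Fact p.Prime]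
  {M : Ideal AlgInt} {C : Cyc G p} {ν : (ZMod p)ˣ → IrrCharacter G} {δ : ℤ}

/-- A term together with a character having its absolute value as degree. -/
def Term (C : Cyc G p) (r z : ℤ) : Prop :=
  (IsTerm p (idx C * eC C) (Nat.card G) r z ∧ Allowed p (Nat.card G) (Nat.card C.V) z.natAbs) ∧
    ∃ χ : IrrCharacter G, χ ≠ oneG G ∧ deg (χ : G → ℂ) = z.natAbs

/-- The degree equation, with the characters and the bound on the squares. -/
theorem degree_equation_chars (hC : Core C) (hM : IsPModular p M) (hD : C.OrbitData C.oneV ν δ) :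
    ∃ (a : ℤ) (l : List ℤ), l.length + 1 = eC C ∧ 1 + l.sum = a ∧ Term C (eC C : ℤ) a ∧
      (∀ z ∈ l, Term C 1 z) ∧ 1 + (l.map fun z => z * z).sum + a * a ≤ (Nat.card G : ℤ) := by
  have hp := hC.three_le
  set f : IrrCharacter G → ℤ := fun χ => C.bI χ C.oneV 1 * (deg (χ : G → ℂ) : ℤ) with hf
  have habs : ∀ {χ : IrrCharacter G}, χ ∈ ordSet C ν → (f χ).natAbs = deg (χ : G → ℂ) := fun {χ} hχ => by
    rcases hD.sign_diff (χ := χ) (mem_ordSet.1 hχ) with e | e <;> simp [f, e]
  have hsqs : ∀ {χ : IrrCharacter G}, χ ∈ ordSet C ν → f χ * f χ = (deg (χ : G → ℂ) : ℤ) ^ 2 := fun {χ} hχ => by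
    rw [← Int.natAbs_mul_self, habs hχ]; push_cast; ring
  have hle : ∀ s : Finset (IrrCharacter G), ∑ χ ∈ s, ((deg (χ : G → ℂ) : ℤ) ^ 2) ≤ (Nat.card G : ℤ) := fun s => by
    have h := Finset.sum_le_sum_of_subset (f := fun ψ : IrrCharacter G => deg (ψ : G → ℂ) ^ 2) (Finset.subset_univ s)
    rw [sum_deg_sq_nat (G := G)] at h
    exact_mod_cast h
  have hterm : ∀ χ ∈ ordSet C ν, χ ≠ oneG G → Term C 1 (f χ) := fun χ hχ hne =>
    ⟨⟨isTerm_ord hC hM hD hχ hne, by rw [habs hχ]; exact allowed_of_lies hC hM hp (mem_ordSet.1 hχ).1 hne⟩,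
      χ, hne, (habs hχ).symm⟩
  have hrel := relation hD
  have hcard := card_ordSet hD
  by_cases hr : oneG G ∈ Set.range ν
  · obtain ⟨u, hu⟩ := hr
    have hx0 : deg (ν 1 : G → ℂ) = 1 := by rw [← deg_exc hD u, hu, deg_oneG]
    have hne : ∀ χ ∈ ordSet C ν, χ ≠ oneG G := fun χ hχ e =>
      (mem_ordSet.1 hχ).2 ⟨u, by rw [hu, e]⟩
    have hcong := congr_exc hM hD
    have he2 := hC.two_le_eC
    have hep : eC C + 1 ≤ p := by
      have := (Fact.out : p.Prime).two_le
      have := Nat.le_of_dvd (by omega) (eC_dvd C)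
      omega
    rw [hx0, Nat.cast_one] at hcong hrel
    have hδ : δ = -1 ∧ eC C + 1 = p := by
      rcases hD.sign with e | e <;> rw [e] at hcong
      · rw [one_mul] at hcong
        have h1 : (p : ℤ) ∣ (eC C : ℤ) - 1 := by rwa [dvd_sub_comm]
        have := Int.le_of_dvd (by omega) h1
        omega
      · rw [neg_one_mul, sub_neg_eq_add] at hcong
        have := Int.le_of_dvd (by omega) hcong
        exact ⟨e, by omega⟩
    obtain ⟨χ₁, hχ₁⟩ := Finset.card_pos.1 (show 0 < (ordSet C ν).card by omega)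
    rw [← Finset.add_sum_erase _ _ hχ₁, hδ.1] at hrel
    refine ⟨-(f χ₁), ((ordSet C ν).erase χ₁).toList.map f, ?_, ?_, ⟨⟨?_, ?_⟩, χ₁, hne _ hχ₁, ?_⟩, ?_, ?_⟩
    · rw [List.length_map, Finset.length_toList, Finset.card_erase_of_mem hχ₁]
      omega
    · rw [Finset.sum_map_toList]
      simp only [f] at hrel ⊢
      omega
    · obtain ⟨h1, h2, h3, h4, h5⟩ := isTerm_ord hC hM hD hχ₁ (hne _ hχ₁)
      refine ⟨by rwa [Int.natAbs_neg], by rwa [Int.natAbs_neg], by rwa [Int.natAbs_neg],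
        by rwa [Int.natAbs_neg], ?_⟩
      rw [show -(f χ₁) - (eC C : ℤ) = -(f χ₁ - 1) - (p : ℤ) by
          have : (eC C : ℤ) + 1 = p := by exact_mod_cast hδ.2
          omega]
      exact dvd_sub h5.neg_right dvd_rfl
    · rw [Int.natAbs_neg, habs hχ₁]
      exact allowed_of_lies hC hM hp (mem_ordSet.1 hχ₁).1 (hne _ hχ₁)
    · rw [Int.natAbs_neg, habs hχ₁]
    · intro z hz
      obtain ⟨χ, hχ, rfl⟩ := List.mem_map.1 hz
      have hχ' := Finset.mem_of_mem_erase (Finset.mem_toList.1 hχ)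
      exact hterm χ hχ' (hne _ hχ')
    · have h := hle (insert (oneG G) (ordSet C ν))
      rw [Finset.sum_insert (fun hm => hne _ hm rfl), deg_oneG,
        ← Finset.add_sum_erase _ _ hχ₁, ← hsqs hχ₁,
        Finset.sum_congr rfl (fun χ hχ => (hsqs (Finset.mem_of_mem_erase hχ)).symm)] at h
      rw [List.map_map, Finset.sum_map_toList]
      simp only [Function.comp, Nat.cast_one, one_pow, neg_mul_neg] at h ⊢
      linarith
  · have hm : oneG G ∈ ordSet C ν := mem_ordSet.2 ⟨lies_oneG, hr⟩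
    rw [← Finset.add_sum_erase _ _ hm, bI_oneG' hM hD hr, deg_oneG] at hrel
    push_cast at hrel
    have habsν : (δ * (deg (ν 1 : G → ℂ) : ℤ)).natAbs = deg (ν 1 : G → ℂ) := by
      rcases hD.sign with e | e <;> simp [e]
    refine ⟨δ * (deg (ν 1 : G → ℂ) : ℤ), ((ordSet C ν).erase (oneG G)).toList.map f,
      ?_, ?_, ⟨⟨isTerm_exc hC hM hD hr, ?_⟩, ν 1, fun e => hr ⟨1, e⟩, habsν.symm⟩, ?_, ?_⟩
    · rw [List.length_map, Finset.length_toList, Finset.card_erase_of_mem hm]
      have := hC.two_le_eC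
      omega
    · rw [Finset.sum_map_toList]
      simp only [f] at hrel ⊢
      omega
    · rw [habsν]
      exact allowed_of_lies hC hM hp (lies_exc hD 1) fun e => hr ⟨1, e⟩
    · intro z hz
      obtain ⟨χ, hχ, rfl⟩ := List.mem_map.1 hz
      exact hterm χ (Finset.mem_of_mem_erase (Finset.mem_toList.1 hχ)) (Finset.ne_of_mem_erase (Finset.mem_toList.1 hχ))
    · have h := hle (insert (ν 1) (ordSet C ν))
      rw [Finset.sum_insert (fun hm' => (mem_ordSet.1 hm').2 ⟨1, rfl⟩),
        ← Finset.add_sum_erase _ _ hm, deg_oneG,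
        Finset.sum_congr rfl (fun χ hχ => (hsqs (Finset.mem_of_mem_erase hχ)).symm)] at h
      rw [List.map_map, Finset.sum_map_toList]
      have hδ2 : δ * δ = 1 := by rcases hD.sign with e | e <;> rw [e] <;> norm_num
      simp only [Function.comp, Nat.cast_one, one_pow] at h ⊢
      nlinarith [h, hδ2]

end Cfsg.Lib.Small.M12Graph
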