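import Cfsg.Agent.Small.M12Graph.Block
import Cfsg.Agent.Chars.DegreeTools
import Mathlib.GroupTheory.SpecificGroups.Dihedral

/-!
# No simple group of order 15840

The Sylow 11-subgroup is self-centralising with a normaliser of order 110, so the degrees of the characters
are multiples of eleven or lie in a short list. The principal 5-block then contains a character of degree
eleven, whose value on an involution inverting an element of order eleven is at once at least -1 and
congruent to 11 modulo 20.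
-/

set_option autoImplicit false
set_option linter.unusedSectionVars false
set_option linter.style.haveILetI false

namespace Cfsg.Lib.Small.M12Graph

open Cfsg.Lib.Chars Cfsg.Lib.Blocks Cfsg.Lib.Blocks.SmallOrder Cfsg.Lib.Blocks.SylowCount
  Cfsg.Lib.Blocks.DegreeEquation
open scoped ComplexConjugate _root_.Classical

universe u

/-- The degrees not excluded by the 11-block. -/
def good (z : ℤ) : Bool := decide (z.natAbs % 11 = 0) || [10, 12, 32, 45, 120].contains z.natAbs

theorem eleven_count_15840 : ∀ n ∈ Nat.divisors 1440, n % 11 = 1 → n ≠ 144 → checkN 11 1440 126 n = true := by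
  decide +kernel

theorem eleven_inertia_15840 : ∀ e ∈ Nat.divisors 10, 2 ≤ e → e ≠ 10 →
    ((sums (terms 11 (144 * e) 15840 (10 / e) 126 1) (e - 1)).all fun s =>
      !(terms 11 (144 * e) 15840 (10 / e) 126 (e : ℤ)).contains (1 + s)) = true := by
  decide +kernel

theorem eleven_degrees_15840 :
    (terms 11 1440 15840 1 126 1 ++ terms 11 1440 15840 1 126 10).all good = true := by
  decide +kernel

theorem five_table_15840 : ∀ n ∈ Nat.divisors 3168, n % 5 = 1 → n ≠ 1 → ∀ e ∈ [2, 4], 3168 % (n * e) = 0 →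
    ((sums ((terms 5 (n * e) 15840 (3168 / n / e) 126 1).filter good) (e - 1)).all fun s =>
      !((terms 5 (n * e) 15840 (3168 / n / e) 126 (e : ℤ)).filter good).contains (1 + s) ||
        decide (e = 2 ∧ s = 11)) = true := by
  decide +kernel

variable {G : Type u} [Group G] [Fintype G] [IsSimpleGroup G]

theorem dihedral_sum_nonneg {p : ℕ} [Fact p.Prime] (C : Cyc G p) {s : G} (hss : s * s = 1)
    (hinv : ∀ i : ZMod p, s * C.yP i * s = C.yP (-i)) (χ : IrrCharacter G) :
    ∃ m : ℕ, (∑ i : ZMod p, (χ : G → ℂ) (C.yP i)) + ∑ i : ZMod p, (χ : G → ℂ) (s * C.yP i) =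
      ((2 * p * m : ℕ) : ℂ) := by
  have hcomm : ∀ i : ZMod p, C.yP i * s = s * C.yP (-i) := fun i => by
    rw [← hinv i, ← mul_assoc, ← mul_assoc, hss, one_mul]
  let f : DihedralGroup p → G := fun x => match x with
    | DihedralGroup.r i => C.yP i
    | DihedralGroup.sr i => s * C.yP i
  have hz : C.yP 0 = 1 := by
    have h := C.yP_add 0 0
    rw [add_zero] at h
    exact mul_eq_left.1 h.symm
  let F : DihedralGroup p →* G :=
    { toFun := f
      map_one' := hz
      map_mul' := fun x w => by
        rcases x with i | i <;> rcases w with j | j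
        · exact C.yP_add i j
        · show s * C.yP (j - i) = C.yP i * (s * C.yP j)
          rw [← mul_assoc, hcomm, mul_assoc, ← C.yP_add]; congr 2; ring
        · show s * C.yP (i + j) = s * C.yP i * C.yP j
          rw [mul_assoc, ← C.yP_add]
        · show C.yP (j - i) = s * C.yP i * (s * C.yP j)
          rw [← mul_assoc, hinv, ← C.yP_add]; congr 1; ring }
  obtain ⟨m, -, hm, -⟩ := exists_degree_decomp (IsCharacter.comp_hom (isCharacter_of_irr χ.2) F)
  refine ⟨m (oneG (DihedralGroup p)), ?_⟩
  have h := hm (oneG (DihedralGroup p))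
  rw [classInner_def, DihedralGroup.nat_card] at h
  simp only [show ∀ x, (oneG (DihedralGroup p) : DihedralGroup p → ℂ) x = 1 from fun _ => rfl, map_one, mul_one] at h
  rw [← Fintype.sum_bijective (Sum.elim DihedralGroup.r DihedralGroup.sr)
    ⟨fun a b e => by rcases a with a | a <;> rcases b with b | b <;> simp_all,
      fun x => by rcases x with i | i; exacts [⟨Sum.inl i, rfl⟩, ⟨Sum.inr i, rfl⟩]⟩
    _ _ (fun _ => rfl), Fintype.sum_sum_type] at h
  have hne : ((2 * p : ℕ) : ℂ) ≠ 0 := Nat.cast_ne_zero.2 (by have := (Fact.out : p.Prime).pos; omega)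
  rw [inv_mul_eq_iff_eq_mul₀ hne] at h
  rw [Nat.cast_mul, ← h]
  rfl

/-- No simple group has order 15840. -/
theorem false_15840 (hG : Nat.card G = 15840) : False := by
  haveI : Fact (Nat.Prime 11) := ⟨by norm_num⟩
  haveI : Fact (Nat.Prime 5) := ⟨by norm_num⟩
  have hnc := Cfsg.Lib.Small.not_comm_of_isSimple (G := G) (by rw [hG]; norm_num)
  have hncyc := Cfsg.Lib.Small.DegreeGraph.not_isCyclic_of_not_comm hnc
  -- the prime eleven
  obtain ⟨P⟩ : Nonempty (Sylow 11 G) := inferInstance
  obtain ⟨hd, hmod⟩ := Cfsg.Lib.Small.sylow_facts P (a := 1) (m := 1440) (by rw [hG]; norm_num) (by norm_num)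
  have hchk := checkN_card_sylow hncyc 11 1440 126 (by rw [hG]) (by norm_num) (by norm_num)
  have h144 : Nat.card (Sylow 11 G) = 144 := by
    by_contra hne
    have := eleven_count_15840 _ (Nat.mem_divisors.2 ⟨hd, by norm_num⟩) hmod hne
    rw [this] at hchk
    exact Bool.noConfusion hchk
  obtain ⟨C, hC, -, hidx, hm, he2⟩ :=
    Cfsg.Lib.Small.DegreeGraph.exists_core hnc (m := 1440) (by rw [hG]) (by norm_num) P
  rw [hidx, h144] at hm
  have hev : eC C * Nat.card C.V = 10 := by omega
  obtain ⟨M, hM⟩ := exists_isPModular (Fact.out : Nat.Prime 11)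
  obtain ⟨ν, δ, hD⟩ := C.exists_orbitData hM C.oneV
  have he : eC C = 10 := by
    by_contra hne
    have h := eleven_inertia_15840 _ (Nat.mem_divisors.2 ⟨⟨_, hev.symm⟩, by norm_num⟩) he2 hne
    obtain ⟨a, l, hlen, hsum, ha, hl, -⟩ := degree_equation_chars hC hM hD
    simp only [Term, hG, hidx, h144] at ha hl
    have hv : 10 / eC C = Nat.card C.V := by
      rw [← hev, Nat.mul_div_cancel_left _ (by omega)]
    rw [hv, List.all_eq_true] at h
    have h3 := h l.sum (by
      rw [show eC C - 1 = l.length by omega]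
      exact sum_mem_sums l fun z hz => mem_terms (by norm_num) (hl z hz).1.1 (hl z hz).1.2)
    simp only [Bool.not_eq_true', hsum] at h3
    rw [List.contains_iff_mem.2 (mem_terms (by norm_num) ha.1.1 ha.1.2)] at h3
    exact Bool.noConfusion h3
  have hV : Nat.card C.V = 1 := by rw [he] at hev; omega
  obtain ⟨PC, hPC⟩ := hC.sylow
  have hv : ∀ v : C.V, v = 1 := fun v => (Nat.card_eq_one_iff_unique.1 hV).1.elim v 1
  have hone : ∀ θ : IrrCharacter C.V, θ = C.oneV := fun θ => by
    refine Subtype.ext (funext fun v => ?_)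
    rw [hv v, irr_deg_one_of_comm (fun a b => by rw [hv a, hv b]) θ.2]
    rfl
  have hgood : ∀ η : IrrCharacter G, η ≠ oneG G → good (deg (η : G → ℂ) : ℤ) = true := by
    intro η hne
    by_cases hl : C.Lies η C.oneV
    · have hdeg := deg_bounds hC hne
      have hall := allowed_of_lies hC hM (by norm_num) hl hne
      rw [hG, hV] at hall
      have hterm : ∃ z : ℤ, z.natAbs = deg (η : G → ℂ) ∧
          (IsTerm 11 1440 15840 1 z ∨ IsTerm 11 1440 15840 (10 : ℤ) z) := by
        by_cases hn : η ∈ Set.range ν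
        · obtain ⟨u, rfl⟩ := hn
          have hr : oneG G ∉ Set.range ν := by
            rintro ⟨w, hw⟩
            have h1 : deg (ν u : G → ℂ) = 1 := by rw [deg_exc hD u, ← deg_exc hD w, hw, deg_oneG]
            omega
          refine ⟨δ * (deg (ν 1 : G → ℂ) : ℤ), ?_, Or.inr ?_⟩
          · rw [deg_exc hD u]
            rcases hD.sign with e | e <;> simp [e]
          · have := isTerm_exc hC hM hD hr
            rw [hG, hidx, h144, he] at this
            exact this
        · have hm' : η ∈ ordSet C ν := mem_ordSet.2 ⟨hl, hn⟩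
          refine ⟨C.bI η C.oneV 1 * (deg (η : G → ℂ) : ℤ), ?_, Or.inl ?_⟩
          · rcases hD.sign_diff (χ := η) (mem_ordSet.1 hm') with e | e <;> simp [e]
          · have := isTerm_ord hC hM hD hm' hne
            rw [hG, hidx, h144, he] at this
            exact this
      obtain ⟨z, hz, ht⟩ := hterm
      have hz' : Allowed 11 15840 1 z.natAbs := by rw [hz]; exact hall
      have hg : good z = true := List.all_eq_true.1 eleven_degrees_15840 z
        (List.mem_append.2 (ht.imp (fun h => mem_terms (by norm_num) h hz') fun h => mem_terms (by norm_num) h hz'))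
      simp only [good, Int.natAbs_natCast, ← hz] at hg ⊢
      exact hg
    · have h0 : (η : G → ℂ) C.y = 0 :=
        C.apply_singular_of_forall_not_lies (fun θ => hone θ ▸ hl) PC hPC (dvd_of_eq C.order.symm)
      have h1 := small_apply_mul_sub hM (isCharacter_of_irr η.2) (x := C.y) (y := 1)
        (Commute.one_right _) ⟨1, by rw [pow_one, C.order]⟩ (by rw [orderOf_one]; norm_num)
      rw [mul_one, h0, irr_apply_one_eq_deg] at h1
      have hd11 : (11 : ℤ) ∣ (deg (η : G → ℂ) : ℤ) := dvd_neg.1 ((small_intCast_iff hM _).1 (by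
        push_cast; simpa using h1))
      simp only [good, Int.natAbs_natCast, Bool.or_eq_true, decide_eq_true_eq]
      left
      omega
  have hgood' : ∀ z : ℤ, (∃ η : IrrCharacter G, η ≠ oneG G ∧ deg (η : G → ℂ) = z.natAbs) → good z = true := by
    rintro z ⟨η, hne, hd⟩
    have := hgood η hne
    simp only [good, Int.natAbs_natCast, hd] at this ⊢
    exact this
  -- an involution inverting an element of order eleven, and an element of order five centralised by it
  have hinj : Function.Injective C.act :=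
    (injective_iff_map_eq_one _).2 fun a ha => congrArg Subtype.val (hv ⟨a, ha⟩)
  have hHc : ∀ a b : C.H, a * b = b * a := fun a b => hinj (by rw [map_mul, map_mul, mul_comm])
  have hcard : Nat.card C.H = 10 := by rw [card_H C, hev]
  obtain ⟨a, ha⟩ := exists_prime_orderOf_dvd_card' (G := C.H) 2 (hp := ⟨Nat.prime_two⟩) (by rw [hcard]; norm_num)
  obtain ⟨c, hc⟩ := exists_prime_orderOf_dvd_card' (G := C.H) 5 (by rw [hcard]; norm_num)
  set s : G := (a : G) with hs
  have hss : s * s = 1 := by rw [← pow_two, ← show orderOf s = 2 by rw [hs, Subgroup.orderOf_coe, ha], pow_orderOf_eq_one]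
  have hs1 : s ≠ 1 := fun e => by
    have : orderOf s = 2 := by rw [hs, Subgroup.orderOf_coe, ha]
    rw [e, orderOf_one] at this
    omega
  have hact : (C.act a : ZMod 11) = -1 := by
    have h1 : (C.act a : ZMod 11) * (C.act a : ZMod 11) = 1 := by
      rw [← Units.val_mul, ← map_mul, show a * a = 1 from Subtype.ext hss, map_one, Units.val_one]
    refine (mul_self_eq_one_iff.1 h1).resolve_left fun e => hs1 ?_
    rw [hs, hinj (show C.act a = C.act 1 by rw [map_one]; exact Units.ext (by rw [e, Units.val_one]))]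
    rfl
  have hinv : ∀ i : ZMod 11, s * C.yP i * s = C.yP (-i) := fun i => by
    have h := C.conj_yP a i
    rw [hact, neg_one_mul, inv_eq_of_mul_eq_one_left hss] at h
    exact h
  have hsc : s * (c : G) = (c : G) * s := congrArg Subtype.val (hHc a c)
  set z : G := (c : G) with hzdef
  have hz5 : orderOf z = 5 := by rw [hzdef, Subgroup.orderOf_coe, hc]
  -- the prime five
  obtain ⟨Q, hQ⟩ := (IsPGroup.of_card (p := 5) (n := 1)
    (by rw [Nat.card_zpowers, hz5, pow_one]) : IsPGroup 5 ↥(Subgroup.zpowers z)).exists_le_sylow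
  have hQc : Nat.card ↥(Q : Subgroup G) = 5 := by
    simpa using Cfsg.Lib.Small.card_sylow_of_factor Q (a := 1) (m := 3168) (by rw [hG]; norm_num) (by norm_num)
  have hQz : (Q : Subgroup G) = Subgroup.zpowers z :=
    (Subgroup.eq_of_le_of_card_ge hQ (by rw [hQc, Nat.card_zpowers, hz5])).symm
  obtain ⟨hd5, hmod5⟩ := Cfsg.Lib.Small.sylow_facts Q (a := 1) (m := 3168) (by rw [hG]; norm_num) (by norm_num)
  obtain ⟨D, hDc, hDQ, hidx5, hm5, he25⟩ :=
    Cfsg.Lib.Small.DegreeGraph.exists_core hnc (m := 3168) (by rw [hG]) (by norm_num) Q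
  rw [hidx5] at hm5
  set n := Nat.card (Sylow 5 G)
  have hn1 : n ≠ 1 := fun e => by
    have := hDc.lt_idx
    rw [hidx5] at this
    omega
  have he4 : eC D ∈ [2, 4] := by
    have h4 : eC D ∣ 4 := eC_dvd D
    have := Nat.le_of_dvd (by norm_num) h4
    simp only [List.mem_cons, List.not_mem_nil, or_false]
    interval_cases h : eC D <;> simp_all
  have hne0 : n * eC D ≠ 0 := fun e => by rw [← mul_assoc, e, zero_mul] at hm5; omega
  have htab := five_table_15840 n (Nat.mem_divisors.2 ⟨hd5, by norm_num⟩) hmod5 hn1 (eC D) he4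
    (Nat.mod_eq_zero_of_dvd ⟨Nat.card D.V, by rw [hm5, mul_assoc]⟩)
  have hv5 : 3168 / n / eC D = Nat.card D.V := by
    rw [Nat.div_div_eq_div_mul, hm5, ← mul_assoc, Nat.mul_div_cancel_left _ (Nat.pos_of_ne_zero hne0)]
  rw [hv5, List.all_eq_true] at htab
  obtain ⟨M5, hM5⟩ := exists_isPModular (Fact.out : Nat.Prime 5)
  obtain ⟨ν5, δ5, hD5⟩ := D.exists_orbitData hM5 D.oneV
  have htwo : eC D = 2 := by
    obtain ⟨a', l, hlen, hsum, ha', hl, -⟩ := degree_equation_chars hDc hM5 hD5
    simp only [Term, hG, hidx5] at ha' hl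
    have h3 := htab l.sum (by
      rw [show eC D - 1 = l.length by omega]
      exact sum_mem_sums l fun w hw => List.mem_filter.2
        ⟨mem_terms (by norm_num) (hl w hw).1.1 (hl w hw).1.2, hgood' w (hl w hw).2⟩)
    rw [hsum, List.contains_iff_mem.2 (List.mem_filter.2 ⟨mem_terms (by norm_num) ha'.1.1 ha'.1.2,
      hgood' a' ha'.2⟩)] at h3
    simp only [Bool.not_true, Bool.false_or, decide_eq_true_eq] at h3
    exact h3.1
  obtain ⟨χ, b, hE, hb, hb1⟩ := exists_eqTwo hDc hM5 hD5 le_rfl htwo
  have hbabs : b.natAbs = deg (χ : G → ℂ) := by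
    rw [hE.b_eq]
    rcases hD5.sign_diff (χ := χ) ⟨hE.lies, hE.not_range⟩ with e | e <;> simp [e]
  have hb1abs : (1 + b).natAbs = deg (ν5 1 : G → ℂ) := by
    rw [hE.relation]
    rcases hD5.sign with e | e <;> simp [e]
  rw [hG, hidx5, htwo] at hb hb1
  rw [htwo] at htab
  have h11 := htab b (by
    simp only [show 2 - 1 = 1 from rfl, sums, List.mem_dedup, List.mem_flatMap, List.mem_singleton, List.mem_map]
    exact ⟨0, rfl, b, List.mem_filter.2 ⟨mem_terms (by norm_num) hb.1 hb.2,
      hgood' b ⟨χ, hE.ne_one, hbabs.symm⟩⟩, add_zero b⟩)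
  rw [show ((2 : ℕ) : ℤ) = 2 from rfl, List.contains_iff_mem.2 (List.mem_filter.2 ⟨mem_terms (by norm_num) hb1.1 hb1.2,
    hgood' (1 + b) ⟨ν5 1, fun e => hE.not_one ⟨1, e⟩, hb1abs.symm⟩⟩)] at h11
  simp only [Bool.not_true, Bool.false_or, decide_eq_true_eq] at h11
  have hdeg : deg (χ : G → ℂ) = 11 := by rw [← hbabs, h11.2]; rfl
  -- the value at the involution
  obtain ⟨r, hr, h4, hle⟩ := value_involution hC χ hss
  rw [hdeg] at h4 hle
  have hnl : ¬ C.Lies χ C.oneV := fun hl => by
    have hall := allowed_of_lies hC hM (by norm_num) hl hE.ne_one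
    rw [hG, hdeg] at hall
    by_cases hn : χ ∈ Set.range ν
    · obtain ⟨u, rfl⟩ := hn
      have hc' := congr_exc hM hD
      rw [← deg_exc hD u, hdeg, he] at hc'
      rcases hD.sign with e | e <;> rw [e] at hc' <;> norm_num at hc'
    · have hc' := congr_ord hM hD hn hl
      rw [hdeg] at hc'
      rcases hD.sign_diff (χ := χ) ⟨hl, hn⟩ with e | e <;> rw [e] at hc' <;> norm_num at hc'
  have hzero : ∀ i : ZMod 11, i ≠ 0 → (χ : G → ℂ) (C.yP i) = 0 := fun i hi =>
    C.apply_singular_of_forall_not_lies (fun θ => hone θ ▸ hnl) PC hPC (by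
      have ho : orderOf (C.yP i) ∣ 11 := by
        rw [Cyc.yP]
        exact (orderOf_pow_dvd _).trans (dvd_of_eq C.order)
      rcases (Nat.dvd_prime (Fact.out : Nat.Prime 11)).1 ho with e | e
      · exact absurd (C.yP_injective ((orderOf_eq_one_iff.1 e).trans C.yP_zero.symm)) hi
      · rw [e])
  have hrefl : ∀ i : ZMod 11, (χ : G → ℂ) (s * C.yP i) = (r : ℂ) := fun i => by
    have h6 : s * C.yP i = C.yP (i * 5) * s * (C.yP (i * 5))⁻¹ := by
      have hcomm : C.yP (i * 5) * s = s * C.yP (-(i * 5)) := by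
        rw [← hinv (i * 5), ← mul_assoc, ← mul_assoc, hss, one_mul]
      rw [hcomm, ← C.yP_neg, mul_assoc, ← C.yP_add]
      congr 2
      rw [← neg_add, ← mul_add, ← mul_neg, show -((5 : ZMod 11) + 5) = 1 from rfl, mul_one]
    rw [h6, ← hr]
    exact isClassFunction_irr χ s (C.yP (i * 5))
  obtain ⟨m, hm2⟩ := dihedral_sum_nonneg C hss hinv χ
  rw [← Finset.add_sum_erase _ _ (Finset.mem_univ (0 : ZMod 11)),
    Finset.sum_eq_zero (fun i hi => hzero i (Finset.ne_of_mem_erase hi)), add_zero, C.yP_zero,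
    irr_apply_one_eq_deg, hdeg, Finset.sum_congr rfl (fun i _ => hrefl i), Finset.sum_const, Finset.card_univ,
    ZMod.card, nsmul_eq_mul] at hm2
  have hm3 : (11 : ℤ) + 11 * r = 22 * (m : ℤ) := by
    apply Int.cast_injective (α := ℂ)
    push_cast at hm2 ⊢
    linear_combination hm2
  -- the congruence modulo five
  have hsn : ∃ v : D.V, ((v : D.H) : G) = s := by
    have hy : D.y ∈ Subgroup.zpowers z := by rw [← hQz, ← hDQ]; exact Subgroup.mem_zpowers _
    obtain ⟨k, hk⟩ := hy
    have hsy : s * D.y = D.y * s := by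
      rw [← show z ^ k = D.y from hk]
      exact ((show Commute s z from hsc).zpow_right k).eq
    have hsn : s ∈ Subgroup.normalizer (Subgroup.zpowers D.y : Set G) := by
      refine Subgroup.centralizer_le_normalizer _ (Subgroup.mem_centralizer_iff.2 fun g hg => ?_)
      obtain ⟨j, rfl⟩ := hg
      exact ((show Commute s D.y from hsy).zpow_right j).eq.symm
    obtain ⟨j, k', hk', hjk⟩ := D.decomp s hsn
    have hact' : D.act ⟨k', hk'⟩ = 1 := by
      refine Units.ext (D.yP_injective ?_)
      rw [Units.val_one, D.yP_one, Cyc.yP, ← D.conj_y ⟨k', hk'⟩]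
      show k' * D.y * k'⁻¹ = D.y
      rw [mul_inv_eq_iff_eq_mul]
      have h1 : D.y ^ j * (k' * D.y) = D.y ^ j * (D.y * k') := by
        rw [← mul_assoc, ← hjk, hsy, hjk, ← mul_assoc, ← mul_assoc, ← pow_succ, ← pow_succ']
      exact mul_left_cancel h1
    refine ⟨⟨⟨k', hk'⟩, hact'⟩, ?_⟩
    show k' = s
    have hc1 : Commute D.y k' := (mul_inv_eq_iff_eq_mul.1 (show k' * D.y * k'⁻¹ = D.y by
      have h2 := D.conj_yP ⟨k', hk'⟩ 1
      rw [hact', Units.val_one, one_mul, D.yP_one] at h2
      exact h2)).symm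
    have hjs : D.y ^ j = s * k'⁻¹ := by rw [hjk, mul_inv_cancel_right]
    have h2 : (D.y ^ j) ^ (2 * Nat.card D.H) = 1 := by
      rw [hjs, ((show Commute s k' from (by
        have hh : Commute (D.y ^ j) k' := hc1.pow_left j
        rw [hjs] at hh
        simpa using hh.mul_left (Commute.refl k'))).inv_right).mul_pow, pow_mul, pow_two, hss, one_pow, one_mul,
        inv_pow, mul_comm 2, pow_mul, show k' ^ Nat.card D.H = 1 from
          congrArg Subtype.val (pow_card_eq_one' (x := (⟨k', hk'⟩ : D.H))), one_pow, inv_one]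
    have hcop : Nat.Coprime 5 (2 * Nat.card D.H) := by
      refine (Nat.Prime.coprime_iff_not_dvd (by norm_num)).2 fun hd => ?_
      rcases (Nat.Prime.dvd_mul (by norm_num)).1 hd with hd | hd
      · norm_num at hd
      · rw [card_H D] at hd
        rcases (Nat.Prime.dvd_mul (by norm_num)).1 hd with hd | hd
        · rw [htwo] at hd; norm_num at hd
        · exact D.not_dvd_card_V hd
    have hone5 : D.y ^ j = 1 := orderOf_eq_one_iff.1 (Nat.eq_one_of_dvd_coprimes hcop
      ((orderOf_pow_dvd j).trans (dvd_of_eq D.order)) (orderOf_dvd_of_pow_eq_one h2))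
    rw [hjk, hone5, one_mul]
  obtain ⟨v, hvs⟩ := hsn
  have hreg : ¬ 5 ∣ orderOf s := fun hd => by
    have := Nat.le_of_dvd Nat.zero_lt_two (hd.trans (orderOf_dvd_of_pow_eq_one (by rw [pow_two, hss])))
    omega
  have hcomm' : Commute D.y s := by
    have h := (D.commute_V v 1).symm
    rwa [D.yP_one, hvs] at h
  have h1 := small_char_sub_regular hM5 (isCharacter_of_irr χ.2) (x := D.y * s) (a := D.y)
    (isPPart_mul hcomm' ⟨1, by rw [pow_one, D.order]⟩ hreg)
  rw [inv_mul_cancel_left] at h1
  have h2 := small_char_sub_regular hM5 (isCharacter_of_irr χ.2) (x := D.y * 1) (a := D.y)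
    (isPPart_mul (Commute.one_right _) ⟨1, by rw [pow_one, D.order]⟩
      (by rw [orderOf_one]; norm_num))
  rw [inv_mul_cancel_left, mul_one, irr_apply_one_eq_deg] at h2
  have h3 : (χ : G → ℂ) (D.y * s) = (χ : G → ℂ) D.y := by
    have := (apply_el_of_lies D hM5 hE.lies (one_ne_zero (α := ZMod 5)) v).trans
      (apply_yP_of_lies D hM5 hE.lies (one_ne_zero (α := ZMod 5))).symm
    rwa [Cyc.el, D.yP_one, hvs] at this
  rw [h3, hr] at h1
  have h5 : (5 : ℤ) ∣ 11 - r := by
    refine (small_intCast_iff hM5 _).1 ?_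
    have h4 := h1.sub h2
    rw [hdeg] at h4
    push_cast
    rw [show ((11 : ℂ) - (r : ℂ)) = ((χ : G → ℂ) D.y - (r : ℂ)) - ((χ : G → ℂ) D.y - (11 : ℂ)) by ring]
    exact_mod_cast h4
  have hr11 : r = 11 := by omega
  refine hs1 (faithful_of_ne_one hC hE.ne_one s ?_)
  rw [hr, hr11, irr_apply_one_eq_deg, hdeg]
  norm_num

end Cfsg.Lib.Small.M12Graph
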