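import Cfsg.Agent.M12Order.Main
import Cfsg.Agent.Chars.DegreeTools
import Cfsg.Agent.Golay.Subgroups
import Cfsg.Agent.Small.DegreeGraph.Reduce.Core

/-!
# The simple groups of order 95040: recognition and three facts on their degree graph
-/

set_option autoImplicit false
set_option linter.unusedSectionVars false

namespace Cfsg.Lib.Small.M12Graph

open Cfsg.Lib.Chars
open scoped _root_.Classical

universe u

/-- The three facts used about the degree graph of the Mathieu group of degree twelve. -/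
structure GraphFacts (G : Type u) [Group G] : Prop where
  eleven : 11 ∈ Cfsg.degreePrimes G
  five : (Cfsg.degreeGraph G).Adj 5 11
  three : (Cfsg.degreeGraph G).Adj 3 11

theorem graphFacts_of_simple {G : Type u} [Group G] [Finite G] [IsSimpleGroup G] (hG : Nat.card G = 95040) :
    GraphFacts G := by
  have := Fintype.ofFinite G
  haveI : Fact (Nat.Prime 11) := ⟨by norm_num⟩
  obtain ⟨B⟩ := M12Order.exists_blk hG
  obtain ⟨y, u, z, S⟩ := B.exists_census
  obtain ⟨⟨η, hη⟩, θ, hθ⟩ := S.degs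
  have hmem : ∀ (χ : IrrCharacter G), deg (χ : G → ℂ) ∈ Cfsg.charDegrees G := fun χ =>
    ⟨χ, charDegree_eq_deg χ.2⟩
  exact ⟨⟨by norm_num, _, hmem η, (dvd_mul_left 11 5).trans hη⟩,
    ⟨by norm_num, by norm_num, by norm_num, _, hmem η, hη⟩,
    ⟨by norm_num, by norm_num, by norm_num, _, hmem θ, hθ⟩⟩

theorem iso_M12 {G : Type u} [Group G] [Finite G] [IsSimpleGroup G] (hG : Nat.card G = 95040) :
    Nonempty (G ≃* ↥Cfsg.Spor.M12) := by
  have := Fintype.ofFinite G
  haveI : Fact (Nat.Prime 11) := ⟨by norm_num⟩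
  obtain ⟨B⟩ := M12Order.exists_blk hG
  obtain ⟨y, u, z, S⟩ := B.exists_census
  exact M12Order.Blk.iso_of_census S

/-- The hypothesis on the group. -/
structure Hyp (G : Type u) [Group G] : Prop where
  card : Nat.card G = 95040
  facts : GraphFacts G

theorem hyp_of_graph {G : Type u} [Group G] [Finite G] (hcard : Nat.card G = Nat.card ↥Cfsg.Spor.M12)
    (hP : Cfsg.degreePrimes G = Cfsg.degreePrimes ↥Cfsg.Spor.M12)
    (hA : Cfsg.degreeGraph G = Cfsg.degreeGraph ↥Cfsg.Spor.M12) : Hyp G := by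
  have := Cfsg.Lib.Golay.isSimple_M12
  have h12 := Cfsg.Lib.Golay.card_M12
  obtain ⟨h1, h2, h3⟩ := graphFacts_of_simple (G := ↥Cfsg.Spor.M12) h12
  exact ⟨hcard.trans h12, ⟨hP ▸ h1, hA ▸ h2, hA ▸ h3⟩⟩

end Cfsg.Lib.Small.M12Graph
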