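import Cfsg.Agent.Small.M12Graph.Model
import Mathlib.GroupTheory.Abelianization.Defs

/-!
# The normal closure of an element of order eleven in a group with the degree graph of M₁₂
-/

set_option autoImplicit false
set_option linter.unusedSectionVars false

namespace Cfsg.Lib.Small.M12Graph

open Subgroup Cfsg.Lib.Small.DegreeGraph
open scoped commutatorElement

universe u

theorem rigid_table : ∀ q ∈ [2, 3, 5, 11], ∀ j < 8, ∀ i < 8,
    (q ≠ 11 ∧ i < j ∧ 95040 % q ^ j = 0) → q ^ i % 11 ≠ q ^ j % 11 := by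
  decide +kernel

theorem eighth_table : ∀ q ∈ [2, 3, 5, 11], 95040 % q ^ 8 ≠ 0 := by decide +kernel

theorem prime_dvd_95040 {q : ℕ} (hq : q.Prime) (h : q ∣ 95040) : q ∈ [2, 3, 5, 11] := by
  have h' : q ∈ Nat.primeFactors 95040 := Nat.mem_primeFactors.2 ⟨hq, h, by norm_num⟩
  have key : ∀ p : ℕ, p.Prime → q ∣ p → q = p := fun p hp hd => (Nat.prime_dvd_prime_iff_eq hq hp).1 hd
  simp only [List.mem_cons, List.not_mem_nil, or_false]
  rw [show 95040 = 2 ^ 6 * 3 ^ 3 * 5 * 11 by norm_num] at h
  rcases hq.dvd_mul.1 h with h | h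
  · rcases hq.dvd_mul.1 h with h | h
    · rcases hq.dvd_mul.1 h with h | h
      · exact Or.inl (key 2 Nat.prime_two (hq.dvd_of_dvd_pow h))
      · exact Or.inr (Or.inl (key 3 Nat.prime_three (hq.dvd_of_dvd_pow h)))
    · exact Or.inr (Or.inr (Or.inl (key 5 (by norm_num) h)))
  · exact Or.inr (Or.inr (Or.inr (key 11 (by norm_num) h)))

theorem rigid_of_dvd {m q : ℕ} (hm : m ∣ 95040) (h11 : ¬ 11 ∣ m) (hq : q.Prime) :
    Rigid 11 q (m.factorization q) := by
  intro i j hij hj
  have hd : q ^ j ∣ m := (pow_dvd_pow q hj).trans (Nat.ordProj_dvd m q)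
  have hq1 : q ∣ m := (dvd_pow_self q (by omega : j ≠ 0)).trans hd
  have hmem := prime_dvd_95040 hq (hq1.trans hm)
  have h95 : 95040 % q ^ j = 0 := Nat.mod_eq_zero_of_dvd (hd.trans hm)
  refine rigid_table q hmem j ?_ i ?_ ⟨fun e => h11 (e ▸ hq1), hij, h95⟩
  · by_contra h8
    exact eighth_table q hmem (Nat.mod_eq_zero_of_dvd ((pow_dvd_pow q (not_lt.1 h8)).trans (hd.trans hm)))
  · by_contra h8
    exact eighth_table q hmem
      (Nat.mod_eq_zero_of_dvd ((pow_dvd_pow q (show 8 ≤ j by omega)).trans (hd.trans hm)))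

namespace Hyp

variable {G : Type u} [Group G] [Finite G] (h : Hyp G)
include h

theorem not_sq : ¬ 11 * 11 ∣ Nat.card G := by rw [h.card]; norm_num

theorem exists_orderOf : ∃ y : G, orderOf y = 11 :=
  haveI : Fact (Nat.Prime 11) := ⟨by norm_num⟩
  exists_prime_orderOf_dvd_card' 11 (by rw [h.card]; norm_num)

variable {y : G} (hy : orderOf y = 11)
include hy

theorem zpowers_not_normal : ¬ (zpowers y).Normal := by
  intro hN
  have h1 := dvd_index_of_mem_degreePrimes h.facts.eleven (zpowers y) fun a ha b hb => by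
    obtain ⟨i, rfl⟩ := ha
    obtain ⟨j, rfl⟩ := hb
    exact ((Commute.refl y).zpow_zpow i j).eq
  refine h.not_sq ?_
  rw [← (zpowers y).card_mul_index, Nat.card_zpowers, hy]
  exact Nat.mul_dvd_mul_left _ h1

/-- The elements of order eleven centralise the normal subgroups of order prime to eleven. -/
theorem le_centralizer (X : Subgroup G) [X.Normal] (hX : ¬ 11 ∣ Nat.card X) :
    X ≤ centralizer ({y} : Set G) := by
  haveI : Fact (Nat.Prime 11) := ⟨by norm_num⟩
  exact centralizes_of_rigid hy (by rw [normalizer_eq_top]; trivial) hX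
    fun q hq => rigid_of_dvd (h.card ▸ card_subgroup_dvd_card X) hX hq

theorem comm_of_normal (X : Subgroup G) [X.Normal] (hX : ¬ 11 ∣ Nat.card X) :
    normalClosure {y} ≤ centralizer (X : Set G) :=
  normalClosure_le_normal (Set.singleton_subset_iff.2
    (mem_centralizer_iff.2 fun k hk => mem_centralizer_singleton_iff.1 (h.le_centralizer hy X hX hk)))

theorem dvd_card_closure : 11 ∣ Nat.card (normalClosure ({y} : Set G)) :=
  hy ▸ Subgroup.orderOf_dvd_natCard _ (subset_normalClosure rfl)

/-- A normal subgroup of the closure of order divisible by eleven is the whole closure. -/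
theorem eq_top_of_dvd (Y : Subgroup (normalClosure ({y} : Set G))) [Y.Normal] (hY : 11 ∣ Nat.card Y) :
    Y = ⊤ := by
  classical
  haveI : Fact (Nat.Prime 11) := ⟨by norm_num⟩
  let M := normalClosure ({y} : Set G)
  have hsqM : ¬ 11 * 11 ∣ Nat.card M := fun hd => h.not_sq (hd.trans (card_subgroup_dvd_card M))
  rw [eq_top_iff]
  rintro ⟨g, hg⟩ -
  suffices hle : M ≤ Y.map M.subtype by
    obtain ⟨x, hx, hxg⟩ := hle hg
    rwa [show (⟨g, hg⟩ : M) = x from Subtype.ext hxg.symm]
  show closure (Group.conjugatesOfSet {y}) ≤ Y.map M.subtype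
  refine (closure_le _).2 fun x hx => ?_
  obtain ⟨a, rfl, hax⟩ := Group.mem_conjugatesOfSet_iff.1 hx
  obtain ⟨c, hc⟩ := isConj_iff.1 hax
  have hxo : orderOf x = 11 := by
    rw [← hc, show c * a * c⁻¹ = MulAut.conj c a from rfl, MulEquiv.orderOf_eq, hy]
  have hxM : x ∈ M := subset_closure hx
  have := mem_of_normal hsqM Y hY (y := (⟨x, hxM⟩ : M)) (by rw [← Subgroup.orderOf_coe]; exact hxo)
  exact ⟨_, this, rfl⟩

/-- A normal subgroup of the closure of order prime to eleven is central in it. -/
theorem le_center_of_not_dvd (Y : Subgroup (normalClosure ({y} : Set G))) [hYn : Y.Normal]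
    (hY : ¬ 11 ∣ Nat.card Y) : Y ≤ center (normalClosure ({y} : Set G)) := by
  classical
  have h11 : Nat.Prime 11 := by norm_num
  let M := normalClosure ({y} : Set G)
  let W := Cfsg.pPrimeCore 11 M
  have hWd : ¬ 11 ∣ Nat.card W := fun hd =>
    h11.coprime_iff_not_dvd.1 (Cfsg.Lib.Components.coprime_card_pPrimeCore 11).symm hd
  have hYW : Y ≤ W := Cfsg.Lib.Components.le_pPrimeCore ((h11.coprime_iff_not_dvd.2 hY).symm)
  have hWn : W.Normal := Cfsg.Lib.Components.pPrimeCore_normal' _
  have hWG : (W.map M.subtype).Normal := ⟨fun x hx g => by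
    obtain ⟨w, hw, rfl⟩ := hx
    let φ : MulAut M := MulAut.conjNormal g
    have hn : (W.map φ.toMonoidHom).Normal := hWn.map _ φ.surjective
    have hle : W.map φ.toMonoidHom ≤ W := Cfsg.Lib.Components.le_pPrimeCore
      (by
        rw [Subgroup.card_map_of_injective (by exact φ.injective)]
        exact Cfsg.Lib.Components.coprime_card_pPrimeCore 11)
    exact ⟨φ w, hle ⟨w, hw, rfl⟩, MulAut.conjNormal_apply g w⟩⟩
  have hc := h.comm_of_normal hy (W.map M.subtype) (by
    rwa [← Nat.card_congr (W.equivMapOfInjective _ M.subtype_injective).toEquiv])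
  intro w hw
  rw [mem_center_iff]
  intro m
  exact Subtype.ext (mem_centralizer_iff.1 (hc m.2) w ⟨w, hYW hw, rfl⟩).symm

theorem not_comm : ¬ ∀ a b : normalClosure ({y} : Set G), a * b = b * a := by
  intro hc
  haveI : Fact (Nat.Prime 11) := ⟨by norm_num⟩
  refine h.zpowers_not_normal hy ⟨fun x hx g => ?_⟩
  obtain ⟨k, rfl⟩ := hx
  set M := normalClosure ({y} : Set G) with hM
  have hyM : y ∈ M := subset_normalClosure rfl
  have hgy : g * y * g⁻¹ ∈ M := Subgroup.Normal.conj_mem inferInstance y hyM g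
  have hoy : orderOf (⟨y, hyM⟩ : M) = 11 := by rw [← Subgroup.orderOf_coe]; exact hy
  have hogy : orderOf (⟨g * y * g⁻¹, hgy⟩ : M) = 11 := by
    rw [← Subgroup.orderOf_coe]
    show orderOf (MulAut.conj g y) = 11
    rw [MulEquiv.orderOf_eq, hy]
  have hn : (zpowers (⟨y, hyM⟩ : M)).Normal := ⟨fun a ha c => by
    rw [hc c a, mul_inv_cancel_right]; exact ha⟩
  obtain ⟨j, hj⟩ := mem_of_normal (fun hd => h.not_sq (hd.trans (card_subgroup_dvd_card M)))
    (zpowers (⟨y, hyM⟩ : M)) (by rw [Nat.card_zpowers, hoy]) hogy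
  refine ⟨j * k, ?_⟩
  have hj' : y ^ j = g * y * g⁻¹ := congrArg Subtype.val hj
  show y ^ (j * k) = g * y ^ k * g⁻¹
  rw [zpow_mul, hj', conj_zpow]

theorem not_dvd_center : ¬ 11 ∣ Nat.card (center (normalClosure ({y} : Set G))) := fun hd => by
  have htop := h.eq_top_of_dvd hy (center _) hd
  exact h.not_comm hy fun a b => (mem_center_iff.1 (htop ▸ Subgroup.mem_top b) a)

/-- The section is simple. -/
theorem isSimpleGroup_quotient :
    IsSimpleGroup (normalClosure ({y} : Set G) ⧸ center (normalClosure ({y} : Set G))) := by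
  set M := normalClosure ({y} : Set G)
  set Z := center M
  have hnt : Nontrivial (M ⧸ Z) := Finite.one_lt_card_iff_nontrivial.1 (by
    rw [← Subgroup.index_eq_card]
    exact Subgroup.one_lt_index_of_ne_top fun e =>
      h.not_comm hy fun a b => (mem_center_iff.1 (show b ∈ Z by rw [e]; exact Subgroup.mem_top b) a))
  refine ⟨fun N hN => ?_⟩
  set Y := N.comap (QuotientGroup.mk' Z)
  have hYn : Y.Normal := hN.comap _
  have hmap : Y.map (QuotientGroup.mk' Z) = N :=
    Subgroup.map_comap_eq_self_of_surjective (QuotientGroup.mk'_surjective Z) N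
  by_cases hd : 11 ∣ Nat.card Y
  · right
    rw [← hmap, h.eq_top_of_dvd hy Y hd, Subgroup.map_top_of_surjective _ (QuotientGroup.mk'_surjective Z)]
  · left
    rw [← hmap, Subgroup.map_eq_bot_iff, QuotientGroup.ker_mk']
    exact h.le_center_of_not_dvd hy Y hd

theorem quotient_not_comm :
    ¬ IsMulCommutative (normalClosure ({y} : Set G) ⧸ center (normalClosure ({y} : Set G))) := fun hc => by
  set M := normalClosure ({y} : Set G)
  have := h.isSimpleGroup_quotient hy
  have : IsCyclic (M ⧸ center M) := by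
    let _ : CommGroup (M ⧸ center M) :=
      { (inferInstance : Group (M ⧸ center M)) with mul_comm := hc.is_comm.comm }
    exact IsSimpleGroup.isCyclic
  exact h.not_comm hy fun a b => (MonoidHom.isMulCommutative_of_isCyclic_of_ker_le_center
    (QuotientGroup.mk' (center M)) (QuotientGroup.ker_mk' _).le).is_comm.comm a b

theorem dvd_card_quotient :
    11 ∣ Nat.card (normalClosure ({y} : Set G) ⧸ center (normalClosure ({y} : Set G))) := by
  have hd := h.dvd_card_closure hy
  rw [Subgroup.card_eq_card_quotient_mul_card_subgroup (center _)] at hd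
  exact ((show Nat.Prime 11 by norm_num).dvd_mul.1 hd).resolve_right (h.not_dvd_center hy)

/-- The closure is perfect. -/
theorem isPerfect : commutator (normalClosure ({y} : Set G)) = ⊤ := by
  set M := normalClosure ({y} : Set G)
  by_cases hd : 11 ∣ Nat.card (commutator M)
  · exact h.eq_top_of_dvd hy (commutator M) hd
  exfalso
  have hle := h.le_center_of_not_dvd hy (commutator M) hd
  refine h.quotient_not_comm hy ⟨⟨fun a b => ?_⟩⟩
  induction a using QuotientGroup.induction_on with | H a => ?_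
  induction b using QuotientGroup.induction_on with | H b => ?_
  rw [← QuotientGroup.mk_mul, ← QuotientGroup.mk_mul, QuotientGroup.eq,
    show (a * b)⁻¹ * (b * a) = ⁅b⁻¹, a⁻¹⁆ by rw [commutatorElement_def]; group]
  exact hle (Subgroup.commutator_mem_commutator (Subgroup.mem_top _) (Subgroup.mem_top _))

end Hyp

end Cfsg.Lib.Small.M12Graph
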