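import Cfsg.Agent.Small.M12Graph.Reduce
import Cfsg.Agent.Recognition.MathieuEleven.Main
import Cfsg.Agent.Chars.Clifford
import Cfsg.Agent.OddChar.InducedFamily
import Cfsg.Agent.S4429
import Cfsg.Agent.S0228
import Cfsg.Agent.S2034
import Cfsg.Agent.S2060

/-!
# The case of a section of order 7920: the group is a direct product with a group of order twelve
-/

set_option autoImplicit false
set_option linter.unusedSectionVars false
set_option linter.style.haveILetI false

namespace Cfsg.Lib.Small.M12Graph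

open Subgroup Cfsg.Lib.Chars
open scoped ComplexConjugate _root_.Classical

universe u

/-- A perfect group whose central quotient is M₁₁ is M₁₁. -/
theorem center_eq_bot_of_cover {M : Type u} [Group M] [Finite M] (hp : commutator M = ⊤)
    (e : M ⧸ center M ≃* ↥Cfsg.Spor.M11) : center M = ⊥ := by
  let fe : M ≃* Shrink.{0} M := Shrink.mulEquiv.symm
  haveI : Finite (Shrink.{0} M) := Finite.of_equiv M fe.toEquiv
  let σ : Shrink.{0} M →* ↥Cfsg.Spor.M11 :=
    (e.toMonoidHom.comp (QuotientGroup.mk' (center M))).comp fe.symm.toMonoidHom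
  have hker : ∀ x : Shrink.{0} M, x ∈ σ.ker ↔ fe.symm x ∈ center M := fun x => by
    show e (QuotientGroup.mk' (center M) (fe.symm x)) = 1 ↔ _
    rw [EmbeddingLike.map_eq_one_iff, QuotientGroup.mk'_apply, QuotientGroup.eq_one_iff]
  have hst : Cfsg.IsStemExtension σ := by
    refine ⟨e.surjective.comp ((QuotientGroup.mk'_surjective _).comp fe.symm.surjective), fun x hx => ?_, fun x _ => ?_⟩
    · have h := (hker x).1 hx
      rw [mem_center_iff] at h ⊢
      intro g
      have h2 := congrArg fe (h (fe.symm g))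
      simpa using h2
    · have h : commutator (Shrink.{0} M) = ⊤ := by
        rw [_root_.commutator_def, ← Subgroup.map_top_of_surjective (fe : M →* Shrink.{0} M) fe.surjective,
          ← Subgroup.map_commutator, ← _root_.commutator_def, hp]
      rw [h]
      exact mem_top x
  obtain ⟨π, hπ⟩ := Cfsg.Agent.S2034.result.2 (Shrink.{0} M) σ hst
  have hone : σ.ker = ⊥ := by
    rw [eq_bot_iff]
    intro x hx
    obtain ⟨a, ha⟩ := hπ ⟨x, hx⟩
    obtain ⟨b, hb⟩ := hπ 1
    have hab : a = b := Subsingleton.elim (α := Multiplicative (ZMod 1)) a b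
    rw [hab, hb] at ha
    exact mem_bot.2 (congrArg Subtype.val ha.symm)
  rw [eq_bot_iff]
  intro m hm
  have h2 : fe m ∈ σ.ker := (hker _).2 (by simpa using hm)
  rw [hone, mem_bot] at h2
  exact mem_bot.2 (fe.injective (h2.trans (map_one fe).symm))

/-- Every automorphism of a group isomorphic to M₁₁ is inner. -/
theorem exists_conj_eq {M : Type u} [Group M] (e : M ≃* ↥Cfsg.Spor.M11) (φ : MulAut M) :
    ∃ m : M, ∀ x, φ x = m * x * m⁻¹ := by
  have h := Cfsg.Agent.S2060.result
  have htop : Cfsg.Inn ↥Cfsg.Spor.M11 = ⊤ := Subgroup.index_eq_one.1 (by rw [Subgroup.index_eq_card]; exact h)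
  obtain ⟨b, hb⟩ : ((e.symm.trans φ).trans e : MulAut ↥Cfsg.Spor.M11) ∈ Cfsg.Inn ↥Cfsg.Spor.M11 := htop ▸ mem_top _
  refine ⟨e.symm b, fun x => ?_⟩
  have h2 := congrArg e.symm (DFunLike.congr_fun hb (e x))
  simp only [MulAut.conj_apply, map_mul, map_inv, MulEquiv.trans_apply, MulEquiv.symm_apply_apply] at h2
  exact h2.symm

/-- The degrees of a simple group of order 7920 divisible by eleven are prime to three. -/
theorem not_three_dvd_deg {M : Type u} [Group M] [Fintype M] [IsSimpleGroup M] (hM : Nat.card M = 7920)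
    (θ : IrrCharacter M) (h11 : 11 ∣ deg (θ : M → ℂ)) : ¬ 3 ∣ deg (θ : M → ℂ) := by
  intro h3
  obtain ⟨-, hn⟩ := Cfsg.Agent.S4429.result hM
  have hpos : 0 < Nat.card {χ : IrrCharacter M // Cfsg.charDegree (χ : M → ℂ) = deg (θ : M → ℂ)} :=
    Nat.card_pos_iff.2 ⟨⟨⟨θ, charDegree_eq_deg θ.2⟩⟩, inferInstance⟩
  rw [hn] at hpos
  split_ifs at hpos <;> omega

variable {G : Type u} [Group G] [Finite G]

theorem iso_prod_of_normal (h : Hyp G) (M : Subgroup G) [M.Normal] (hc : Nat.card M = 7920)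
    (e : M ≃* ↥Cfsg.Spor.M11) : Nonempty (G ≃* alternatingGroup (Fin 4) × ↥Cfsg.Spor.M11) := by
  have := Fintype.ofFinite G
  haveI : IsSimpleGroup ↥M := e.isSimpleGroup_congr.mpr Cfsg.Lib.Golay.isSimple_M11
  set R := centralizer (M : Set G)
  have hdec : ∀ g : G, ∃ m ∈ M, m⁻¹ * g ∈ R := by
    intro g
    obtain ⟨m, hm⟩ := exists_conj_eq e (MulAut.conjNormal g : MulAut M)
    refine ⟨m, m.2, mem_centralizer_iff.2 fun x hx => ?_⟩
    have h1 := congrArg Subtype.val (hm ⟨x, hx⟩)
    rw [MulAut.conjNormal_apply] at h1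
    have h2 : g * x * g⁻¹ = (m : G) * x * (m : G)⁻¹ := h1
    calc x * ((m : G)⁻¹ * g) = (m : G)⁻¹ * ((m : G) * x * (m : G)⁻¹) * g := by group
      _ = (m : G)⁻¹ * (g * x * g⁻¹) * g := by rw [h2]
      _ = (m : G)⁻¹ * g * x := by group
  have hcomm : ∀ r ∈ R, ∀ m ∈ M, r * m = m * r := fun r hr m hm => (mem_centralizer_iff.1 hr m hm).symm
  have hMR : M ⊓ R = ⊥ := by
    rw [eq_bot_iff]
    rintro x ⟨hxM, hxR⟩
    have hnc : ¬ ∀ a b : M, a * b = b * a := Cfsg.Lib.Small.not_comm_of_isSimple (by rw [hc]; norm_num)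
    have hz : (⟨x, hxM⟩ : M) ∈ center M := mem_center_iff.2 fun w => Subtype.ext (mem_centralizer_iff.1 hxR w w.2)
    rcases IsSimpleGroup.eq_bot_or_eq_top_of_normal (center M) inferInstance with hb | hb
    · rw [hb, mem_bot] at hz
      exact mem_bot.2 (congrArg Subtype.val hz)
    · exact absurd (fun a b => mem_center_iff.1 (hb ▸ mem_top b) a) hnc
  let F : R × M →* G :=
    { toFun := fun p => (p.1 : G) * p.2
      map_one' := by simp
      map_mul' := fun p q => by
        show ((p.1 * q.1 : R) : G) * ((p.2 * q.2 : M) : G) = (p.1 : G) * p.2 * ((q.1 : G) * q.2)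
        push_cast
        calc (p.1 : G) * q.1 * (p.2 * q.2) = p.1 * ((q.1 : G) * p.2) * q.2 := by group
          _ = p.1 * ((p.2 : G) * q.1) * q.2 := by rw [hcomm _ q.1.2 _ p.2.2]
          _ = _ := by group }
  have hinj : Function.Injective F := by
    rw [injective_iff_map_eq_one]
    intro p hp
    have hp' : (p.1 : G) * p.2 = 1 := hp
    have h1 : (p.1 : G) = (p.2 : G)⁻¹ := eq_inv_of_mul_eq_one_left hp'
    have h2 : (p.1 : G) ∈ M ⊓ R := Subgroup.mem_inf.2 ⟨h1 ▸ M.inv_mem p.2.2, p.1.2⟩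
    rw [hMR, mem_bot] at h2
    rw [h2, one_mul] at hp'
    exact Prod.ext (Subtype.ext h2) (Subtype.ext hp')
  have hsurj : Function.Surjective F := fun g => by
    obtain ⟨m, hm, hr⟩ := hdec g
    refine ⟨(⟨m⁻¹ * g, hr⟩, ⟨m, hm⟩), ?_⟩
    show m⁻¹ * g * m = g
    rw [hcomm _ hr m hm]
    group
  let eG := MulEquiv.ofBijective F ⟨hinj, hsurj⟩
  have hR : Nat.card R = 12 := by
    have h1 := Nat.card_congr eG.toEquiv
    rw [Nat.card_prod, hc, h.card] at h1
    omega
  have hz : ∀ z : R, orderOf z = 2 → z ∉ center R := by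
    intro z hz hcen
    obtain ⟨-, -, -, d, ⟨χ, rfl⟩, hd⟩ := h.facts.three
    rw [charDegree_eq_deg χ.2] at hd
    -- the involution is central
    have hzG : ∀ g : G, (z : G) * g = g * z := fun g => by
      obtain ⟨⟨r, m⟩, rfl⟩ := hsurj g
      show (z : G) * ((r : G) * m) = (r : G) * m * z
      have h1 : (r : G) * z = z * r := congrArg Subtype.val (mem_center_iff.1 hcen r)
      rw [← mul_assoc, ← h1, mul_assoc, hcomm _ z.2 _ m.2, mul_assoc]
    obtain ⟨θ, hθ, hθc⟩ := exists_constituent (N := M) (isCharacter_of_irr χ.2)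
      (IsIrrCharacter.apply_one_ne_zero χ.2)
    have hinv : ∀ g : G, conjN M g θ = θ := fun g => by
      funext n
      obtain ⟨m, hm⟩ := exists_conj_eq e (MulAut.conjNormal g : MulAut M)
      rw [conjN_eq_comp]
      show θ ((MulAut.conjNormal g : MulAut M) n) = θ n
      rw [hm n]
      exact isClassFunction_irr ⟨θ, hθ⟩ n m
    obtain ⟨k, hk0, hk⟩ := restrict_eq_mult_of_invariant M χ.2 hθ hinv hθc
    have hdeg : deg (χ : G → ℂ) = k * deg θ := by
      apply Nat.cast_injective (R := ℂ)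
      rw [← irr_apply_one_eq_deg, Nat.cast_mul, ← IsCharacter.apply_one_eq_deg (isCharacter_of_irr hθ)]
      exact congrFun hk 1
    -- the multiplicity is at most two
    obtain ⟨c, hc1, hcn⟩ : ∃ c : ℂ, ‖c‖ = 1 ∧ ∀ g : G, (χ : G → ℂ) ((z : G) * g) = c * (χ : G → ℂ) g := by
      obtain ⟨n, ρ, hρ, hρχ⟩ := χ.2
      haveI := hρ
      obtain ⟨c, hc⟩ := schur_scalar ρ (ρ (z : G)) fun g v => by
        have h2 : ρ ((z : G) * g) = ρ (g * z) := by rw [hzG g]
        rw [map_mul, map_mul] at h2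
        exact LinearMap.congr_fun h2 v
      haveI := nontrivial_of_irreducible ρ
      obtain ⟨v, hv⟩ := exists_ne (0 : Fin n → ℂ)
      have hzz : (z : G) * z = 1 := by
        rw [← Subgroup.coe_mul, ← pow_two, ← hz, pow_orderOf_eq_one, Subgroup.coe_one]
      have hcc : c * c = 1 := smul_left_injective ℂ hv (by
        have h2 : ρ ((z : G) * z) v = v := by rw [hzz, map_one]; rfl
        rw [map_mul, Module.End.mul_apply, hc] at h2
        simpa [smul_smul] using h2)
      refine ⟨c, Complex.norm_eq_one_of_pow_eq_one (n := 2) (by rw [pow_two, hcc]) two_ne_zero, fun g => ?_⟩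
      rw [← hρχ, Representation.character, map_mul, hc, Representation.character,
        show (c • LinearMap.id : (Fin n → ℂ) →ₗ[ℂ] (Fin n → ℂ)) * ρ g = c • ρ g from LinearMap.ext fun w => rfl,
        map_smul, smul_eq_mul]
    have hθsum : ∑ x : M, ‖θ x‖ ^ 2 = (7920 : ℝ) := by
      have h1 := classInner_self θ
      rw [classInner_self_irr hθ, hc] at h1
      have h2 : ((7920 : ℕ) : ℝ)⁻¹ * ∑ x : M, ‖θ x‖ ^ 2 = 1 := by exact_mod_cast h1.symm
      push_cast at h2
      field_simp at h2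
      linarith
    have hχsum : ∑ g : G, ‖(χ : G → ℂ) g‖ ^ 2 = (95040 : ℝ) := by
      have h1 := classInner_self (χ : G → ℂ)
      rw [classInner_irr_self χ, h.card] at h1
      have h2 : ((95040 : ℕ) : ℝ)⁻¹ * ∑ g : G, ‖(χ : G → ℂ) g‖ ^ 2 = 1 := by exact_mod_cast h1.symm
      push_cast at h2
      field_simp at h2
      linarith
    let ι : M ⊕ M → G := Sum.elim (fun x => (x : G)) (fun x => (z : G) * x)
    have hιi : Function.Injective ι := by
      have hne : ∀ a b : M, (a : G) ≠ (z : G) * b := fun a b e' => by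
        have hzM : (z : G) ∈ M ⊓ R := ⟨by
          rw [show (z : G) = (a : G) * (b : G)⁻¹ by rw [e', mul_inv_cancel_right]]
          exact M.mul_mem a.2 (M.inv_mem b.2), z.2⟩
        rw [hMR, mem_bot] at hzM
        rw [← Subgroup.orderOf_coe, hzM, orderOf_one] at hz
        omega
      rintro (a | a) (b | b) e'
      · exact congrArg Sum.inl (Subtype.ext e')
      · exact absurd e' (hne a b)
      · exact absurd e'.symm (hne b a)
      · exact congrArg Sum.inr (Subtype.ext (mul_left_cancel e'))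
    have hsub := Finset.sum_le_sum_of_subset_of_nonneg (Finset.subset_univ (Finset.univ.image ι))
      (f := fun g : G => ‖(χ : G → ℂ) g‖ ^ 2) (fun g _ _ => by positivity)
    rw [Finset.sum_image (fun a _ b _ e' => hιi e'), Fintype.sum_sum_type, hχsum] at hsub
    have hval : ∀ x : M, ‖(χ : G → ℂ) x‖ ^ 2 = (k : ℝ) ^ 2 * ‖θ x‖ ^ 2 := fun x => by
      rw [show (χ : G → ℂ) (x : G) = (k : ℂ) * θ x from congrFun hk x, norm_mul, Complex.norm_natCast, mul_pow]
    simp only [ι, Sum.elim_inl, Sum.elim_inr, hcn, norm_mul, hc1, one_mul, hval, ← Finset.mul_sum, hθsum] at hsub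
    have hk2 : k ≤ 2 := by
      by_contra hk3
      have : (3 : ℝ) ≤ (k : ℝ) := by exact_mod_cast (show 3 ≤ k by omega)
      nlinarith
    rw [hdeg] at hd
    have hk11 : ∀ p : ℕ, p.Prime → 2 < p → ¬ p ∣ k := fun p _ hp2 hd' => by
      have := Nat.le_of_dvd hk0 hd'
      omega
    have h11 : 11 ∣ deg θ := ((show Nat.Prime 11 by norm_num).dvd_mul.1 ((dvd_mul_left 11 3).trans hd)).resolve_left
      (hk11 11 (by norm_num) (by norm_num))
    have h3 : 3 ∣ deg θ := (Nat.prime_three.dvd_mul.1 ((dvd_mul_right 3 11).trans hd)).resolve_left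
      (hk11 3 Nat.prime_three (by norm_num))
    exact not_three_dvd_deg hc ⟨θ, hθ⟩ h11 h3
  obtain ⟨a⟩ := Cfsg.Agent.S0228.result hR hz
  exact ⟨eG.symm.trans (a.prodCongr e)⟩

end Cfsg.Lib.Small.M12Graph
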